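import Mathlib
import Cfsg.Agent.CoprimeClass.Main
import Cfsg.Agent.Classical.ExcSmall
import Cfsg.Agent.S0205
import Cfsg.Agent.S0215
import Cfsg.Agent.S0219
import Cfsg.Agent.S2202

/-!
# Class sizes in a non-abelian simple group: general facts

Products of two classes of coprime sizes, central elements of Sylow subgroups, and the recognition of `PSL₂(2^f)` from
abelian centralisers of involutions.
-/

set_option autoImplicit false

namespace Cfsg.Agent.ItoRankThree

open Cfsg.Agent.CoprimeClass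
open scoped Pointwise

universe u

variable {G : Type u} [Group G] [Finite G]

/-- A non-abelian finite simple group. -/
structure NS (G : Type u) [Group G] : Prop where
  simple : IsSimpleGroup G
  na : ¬ IsMulCommutative G

/-- The target. -/
def IsPSLTwo (G : Type u) [Group G] : Prop :=
  ∃ (m : ℕ) (F : Type) (_ : Field F) (_ : Fintype F), 2 ≤ m ∧ Fintype.card F = 2 ^ m ∧
    Nonempty (G ≃* Matrix.ProjectiveSpecialLinearGroup (Fin 2) F)

omit [Finite G] in
theorem NS.normal (hG : NS G) (N : Subgroup G) (hN : N.Normal) : N = ⊥ ∨ N = ⊤ :=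
  haveI := hG.simple; hN.eq_bot_or_eq_top

omit [Finite G] in
theorem NS.center (hG : NS G) : Subgroup.center G = ⊥ :=
  (hG.normal _ inferInstance).resolve_right fun h => hG.na
    ⟨⟨fun a b => (Subgroup.mem_center_iff.1 (h.symm.le (Subgroup.mem_top b)) a)⟩⟩

omit [Finite G] in
theorem NS.eq_one_of_central (hG : NS G) {z : G} (h : ∀ g : G, g * z = z * g) : z = 1 :=
  Subgroup.mem_bot.1 (hG.center ▸ Subgroup.mem_center_iff.2 h)

theorem NS.one_lt_sz (hG : NS G) {x : G} (hx : x ≠ 1) : 1 < sz x := by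
  by_contra h
  exact hx (Subgroup.mem_bot.1 (hG.center ▸ central_of_sz_one (not_lt.1 h)))

theorem NS.even_card (hG : NS G) : Even (Nat.card G) := by
  by_contra h
  haveI := hG.simple
  haveI := S0205.result (Nat.not_even_iff_odd.1 h)
  exact hG.na ⟨⟨fun a b => IsSimpleGroup.comm_iff_isSolvable.2 inferInstance a b⟩⟩

omit [Finite G] in
theorem sz_dvd_of_le {u v : G} (h : cz u ≤ cz v) : sz v ∣ sz u := Subgroup.index_dvd_of_le h

theorem sz_dvd_card (u : G) : sz u ∣ Nat.card G := Subgroup.index_dvd_card _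

theorem eq_of_le_of_sz_eq {u v : G} (h : cz u ≤ cz v) (he : sz u = sz v) : cz u = cz v :=
  eq_of_le_of_sz_le h he.le

omit [Finite G] in
theorem mul_ne_one {u v : G} (hu : u ≠ 1) (hcop : (orderOf u).Coprime (orderOf v)) : u * v ≠ 1 := by
  intro h
  rw [← inv_eq_of_mul_eq_one_right h, orderOf_inv, Nat.coprime_self, orderOf_eq_one_iff] at hcop
  exact hu hcop

omit [Finite G] in
theorem ne_one_of_orderOf {x : G} {p : ℕ} (hp : p.Prime) (h : orderOf x = p) : x ≠ 1 :=
  fun e => hp.ne_one (by rw [← h, e, orderOf_one])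

theorem exists_prime_order_le {x : G} (hx : x ≠ 1) :
    ∃ (p : ℕ) (z : G), p.Prime ∧ orderOf z = p ∧ cz x ≤ cz z ∧ z ∈ Subgroup.zpowers x := by
  obtain ⟨p, hp, hdvd⟩ := Nat.exists_prime_and_dvd (show orderOf x ≠ 1 by simpa using hx)
  refine ⟨p, x ^ (orderOf x / p), hp, ?_, cz_le_of_mem_zpowers (pow_mem (Subgroup.mem_zpowers x) _),
    pow_mem (Subgroup.mem_zpowers x) _⟩
  exact orderOf_pow_orderOf_div (orderOf_pos x).ne' hdvd

/-- Products of two classes of coprime sizes in a simple group. -/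
theorem NS.sz_mul_ne (hG : NS G) {u v : G} (hu : u ≠ 1) (hv : v ≠ 1) (hcop : (sz u).Coprime (sz v)) :
    sz (u * v) ≠ sz v := by
  intro hs
  have htop : comSub u = ⊤ := (hG.normal _ inferInstance).resolve_left fun h => hu
    (hG.eq_one_of_central fun g => by
      have h1 : u⁻¹ * (g * u * g⁻¹) = 1 := Subgroup.mem_bot.1 (h ▸ mem_comSub u g)
      have h2 := inv_mul_eq_one.1 h1
      exact (mul_inv_eq_iff_eq_mul.1 h2.symm))
  obtain ⟨g, hg⟩ := translate hcop hs (htop.symm.le (Subgroup.mem_top v⁻¹))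
    (show v ∈ cls v from ⟨1, by simp⟩)
  simp only [inv_mul_cancel] at hg
  exact hv (conj_eq_one_iff.1 hg)

theorem NS.sz_mul_ne' (hG : NS G) {u v : G} (hu : u ≠ 1) (hv : v ≠ 1) (hcop : (sz u).Coprime (sz v)) :
    sz (u * v) ≠ sz u := by
  have h := hG.sz_mul_ne hv hu hcop.symm
  rwa [← sz_conj v (u * v), show v * (u * v) * v⁻¹ = v * u by group]

/-- Elements with classes of coprime sizes do not commute. -/
theorem NS.not_commute (hG : NS G) {u v : G} (hu : u ≠ 1) (hv : v ≠ 1) (hcop : (sz u).Coprime (sz v)) :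
    ¬ Commute u v := by
  intro hc
  let N : Subgroup G := Subgroup.normalClosure ({v} : Set G)
  have htop : N = ⊤ := (hG.normal _ Subgroup.normalClosure_normal).resolve_left fun h => hv
    (Subgroup.mem_bot.1 (h ▸ Subgroup.subset_normalClosure (Set.mem_singleton v)))
  have hle : N ≤ cz u := by
    refine (Subgroup.closure_le _).2 fun w hw => ?_
    obtain ⟨v', hv', hw'⟩ := Group.mem_conjugatesOfSet_iff.1 hw
    obtain rfl : v = v' := (Set.mem_singleton_iff.1 hv').symm
    obtain ⟨g, rfl⟩ := isConj_iff.1 hw'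
    obtain ⟨a, ha, b, hb, rfl⟩ := exists_mem_cz hcop g
    rw [SetLike.mem_coe, show a * b * v * (a * b)⁻¹ = a * (b * v * b⁻¹) * a⁻¹ by group, conj_eq_of_mem hb]
    exact mul_mem (mul_mem ha (mem_cz.2 hc.eq.symm)) (inv_mem ha)
  exact hu (hG.eq_one_of_central fun g => mem_cz.1 (hle (htop.symm.le (Subgroup.mem_top g))))

theorem exists_sylow_center {p : ℕ} [Fact p.Prime] (h : p ∣ Nat.card G) (P : Sylow p G) :
    ∃ z : G, orderOf z = p ∧ (P : Subgroup G) ≤ cz z ∧ ¬ p ∣ sz z := by
  have hne : Nontrivial ↥(P : Subgroup G) := by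
    rw [Subgroup.nontrivial_iff_ne_bot]
    exact P.ne_bot_of_dvd_card h
  haveI := IsPGroup.center_nontrivial P.2
  obtain ⟨k, hk⟩ := IsPGroup.iff_card.1 (P.2.to_subgroup (Subgroup.center ↥(P : Subgroup G)))
  have hk0 : k ≠ 0 := fun e => by
    rw [e, pow_zero] at hk
    exact (Finite.one_lt_card (α := Subgroup.center ↥(P : Subgroup G))).ne' hk
  obtain ⟨z, hz⟩ := exists_prime_orderOf_dvd_card' (G := Subgroup.center ↥(P : Subgroup G)) p
    (hk ▸ dvd_pow_self p hk0)
  have hle : (P : Subgroup G) ≤ cz ((z : ↥(P : Subgroup G)) : G) := fun a ha =>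
    mem_cz.2 (congrArg Subtype.val (Subgroup.mem_center_iff.1 z.2 ⟨a, ha⟩))
  exact ⟨_, by rw [Subgroup.orderOf_coe, Subgroup.orderOf_coe, hz], hle,
    fun hd => P.not_dvd_index (hd.trans (Subgroup.index_dvd_of_le hle))⟩

theorem exists_not_dvd_sz (hG : NS G) {p : ℕ} (hp : p.Prime) : ∃ z : G, z ≠ 1 ∧ ¬ p ∣ sz z := by
  haveI : Fact p.Prime := ⟨hp⟩
  by_cases h : p ∣ Nat.card G
  · obtain ⟨z, hz, -, h'⟩ := exists_sylow_center h (default : Sylow p G)
    exact ⟨z, ne_one_of_orderOf hp hz, h'⟩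
  · haveI := hG.simple
    obtain ⟨z, hz⟩ := exists_ne (1 : G)
    exact ⟨z, hz, fun hd => h (hd.trans (sz_dvd_card z))⟩

theorem exists_conj_mem_sylow {p a : ℕ} [Fact p.Prime] {x : G} (hx : orderOf x = p ^ a) (P : Sylow p G) :
    ∃ g : G, g * x * g⁻¹ ∈ (P : Subgroup G) := by
  have hX : IsPGroup p ↥(Subgroup.zpowers x) :=
    IsPGroup.iff_card.2 ⟨a, by rw [Nat.card_zpowers, hx]⟩
  obtain ⟨Q, hQ⟩ := hX.exists_le_sylow
  obtain ⟨g, hg⟩ := MulAction.exists_smul_eq G Q P
  refine ⟨g, ?_⟩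
  rw [← hg, Sylow.coe_subgroup_smul]
  exact Subgroup.smul_mem_pointwise_smul x (MulAut.conj g) _ (hQ (Subgroup.mem_zpowers x))

theorem exists_sylow_le {p : ℕ} [Fact p.Prime] {C : Subgroup G} (h : ¬ p ∣ C.index) :
    ∃ P : Sylow p G, (P : Subgroup G) ≤ C := by
  let R : Sylow p ↥C := default
  have hR : IsPGroup p ↥((R : Subgroup ↥C).map C.subtype) := R.2.map _
  have hi : ¬ p ∣ ((R : Subgroup ↥C).map C.subtype).index := by
    rw [Subgroup.index_map_subtype]
    exact fun hd => ((Fact.out : p.Prime).dvd_mul.1 hd).elim R.not_dvd_index h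
  exact ⟨hR.toSylow hi, Subgroup.map_subtype_le _⟩

theorem mem_sylow_of_le_cz {p a : ℕ} [Fact p.Prime] {t : G} (ht : orderOf t = p ^ a) {P : Sylow p G}
    (h : (P : Subgroup G) ≤ cz t) : t ∈ (P : Subgroup G) := by
  have hX : IsPGroup p ↥(Subgroup.zpowers t) :=
    IsPGroup.iff_card.2 ⟨a, by rw [Nat.card_zpowers, ht]⟩
  have hN : t ∈ Subgroup.normalizer ((P : Subgroup G) : Set G) := by
    rw [Subgroup.mem_normalizer_iff]
    intro y
    constructor <;> intro hy
    · have := mem_cz.1 (h hy)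
      rwa [← this, mul_inv_cancel_right]
    · have := mem_cz.1 (h hy)
      have e : t * y * t⁻¹ = y := mul_left_cancel (a := t) (by rw [← this]; group)
      rwa [e] at hy
  have h2 : t ∈ Subgroup.zpowers t ⊓ Subgroup.normalizer ((P : Subgroup G) : Set G) :=
    ⟨Subgroup.mem_zpowers t, hN⟩
  exact ((IsPGroup.inf_normalizer_sylow hX P).le h2).2

/-- A centraliser all of whose elements of odd prime power order are central is abelian when the Sylow 2-subgroups
are. -/
theorem abelian_of_odd_central (C : Subgroup G)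
    (hodd : ∀ v ∈ C, Odd (orderOf v) → C ≤ cz v)
    (hS : ∀ P : Sylow 2 G, IsMulCommutative ↥(P : Subgroup G)) : IsMulCommutative ↥C := by
  haveI : Fact (Nat.Prime 2) := ⟨Nat.prime_two⟩
  let T : Sylow 2 ↥C := default
  obtain ⟨Q, hQ⟩ := (T.2.map C.subtype).exists_le_sylow
  have hT : ∀ a ∈ (T : Subgroup ↥C), ∀ b ∈ (T : Subgroup ↥C), a * b = b * a := fun a ha b hb => by
    have := (hS Q).is_comm.comm ⟨(a : G), hQ (Subgroup.mem_map_of_mem _ ha)⟩
      ⟨(b : G), hQ (Subgroup.mem_map_of_mem _ hb)⟩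
    exact Subtype.ext (congrArg (fun z : ↥(Q : Subgroup G) => (z : G)) this)
  set J : Subgroup ↥C := Subgroup.center ↥C ⊔ T with hJ
  have htop : J = ⊤ := by
    rw [← Subgroup.index_eq_one]
    by_contra hne
    obtain ⟨r, hr, hrd⟩ := Nat.exists_prime_and_dvd hne
    rcases eq_or_ne r 2 with rfl | hr2
    · exact T.not_dvd_index (hrd.trans (Subgroup.index_dvd_of_le le_sup_right))
    · obtain ⟨u, -, hu, a, ha⟩ := exists_prime_elt (K := (⊤ : Subgroup ↥C)) hr
        (by rwa [Subgroup.relIndex_top_right])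
      refine hu (Subgroup.mem_sup_left (Subgroup.mem_center_iff.2 fun c => Subtype.ext ?_))
      exact mem_cz.1 (hodd (u : G) u.2 (by
        rw [Subgroup.orderOf_coe, ha]
        exact (hr.odd_of_ne_two hr2).pow) c.2)
  have hcom : J ≤ Subgroup.centralizer (J : Set ↥C) := by
    refine sup_le (Subgroup.center_le_centralizer _) fun a ha => ?_
    rw [Subgroup.mem_centralizer_iff]
    intro b hb
    have : J ≤ cz a := sup_le (center_le a) fun z hz => mem_cz.2 (hT z hz a ha)
    exact mem_cz.1 (this hb)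
  exact ⟨⟨fun a b => Subgroup.mem_centralizer_iff.1 (hcom (htop.symm.le (Subgroup.mem_top b))) a
    (htop.symm.le (Subgroup.mem_top a))⟩⟩

theorem IsPSLTwo.of_abelian (hG : NS G)
    (h : ∀ t : G, orderOf t = 2 → IsMulCommutative ↥(cz t)) : IsPSLTwo G := by
  haveI := hG.simple
  have heven := hG.even_card
  have hno : ∀ P : Sylow 2 G, ¬ IsCyclic ↥(P : Subgroup G) := by
    intro P hP
    obtain ⟨K, hK⟩ := S0219.result heven P hP
    rcases hG.normal K (Subgroup.normal_of_index_eq_two hK) with rfl | rfl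
    · rw [Subgroup.index_bot] at hK
      haveI : Fact (Nat.Prime 2) := ⟨Nat.prime_two⟩
      haveI := isCyclic_of_prime_card hK
      exact hG.na IsCyclic.isMulCommutative
    · simp at hK
  rcases S2202.result heven h with hc | hn | ⟨F, iF, iFi, A, iA, iAf, hF, hA, ⟨e⟩⟩
  · exact absurd (hc default) (hno default)
  · exfalso
    haveI : Fact (Nat.Prime 2) := ⟨Nat.prime_two⟩
    let P : Sylow 2 G := default
    rcases hG.normal _ (hn P) with h0 | h0
    · exact P.ne_bot_of_dvd_card (even_iff_two_dvd.1 heven) h0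
    · obtain ⟨k, hk⟩ := IsPGroup.iff_card.1 P.2
      have hp : IsPGroup 2 G := IsPGroup.iff_card.2 ⟨k, by rw [← hk, h0, Subgroup.card_top]⟩
      haveI := hp.isNilpotent
      exact hG.na ⟨⟨fun a b => IsSimpleGroup.comm_iff_isSolvable.2 inferInstance a b⟩⟩
  · classical
    let π : G →* A := (MonoidHom.snd _ A).comp e.toMonoidHom
    have hπ : π.ker = ⊤ := (hG.normal _ inferInstance).resolve_left fun h0 => hG.na
      ⟨⟨fun a b => (MonoidHom.ker_eq_bot_iff π).1 h0 (by rw [map_mul, map_mul, mul_comm])⟩⟩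
    haveI : Subsingleton A := ⟨fun a b => by
      have h1 : ∀ c : A, c = 1 := fun c => by
        have := MonoidHom.mem_ker.1 (hπ.symm.le (Subgroup.mem_top (e.symm (1, c))))
        simpa [π] using this
      rw [h1 a, h1 b]⟩
    let e' : G ≃* Matrix.SpecialLinearGroup (Fin 2) F :=
      MulEquiv.ofBijective ((MonoidHom.fst _ A).comp e.toMonoidHom) ⟨fun a b hab =>
        e.injective (Prod.ext hab (Subsingleton.elim _ _)), fun s => ⟨e.symm (s, 1), by simp⟩⟩
    have h2 : (2 : F) = 0 := CharTwo.two_eq_zero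
    have hZ : Subgroup.center (Matrix.SpecialLinearGroup (Fin 2) F) = ⊥ :=
      Subgroup.card_eq_one.1 (_root_.Cfsg.Agent.Classical.Exc.card_center_sl2_two h2)
    let q : Matrix.SpecialLinearGroup (Fin 2) F ≃* Matrix.ProjectiveSpecialLinearGroup (Fin 2) F :=
      MulEquiv.ofBijective (QuotientGroup.mk' _) ⟨by
        rw [← MonoidHom.ker_eq_bot_iff, QuotientGroup.ker_mk', hZ], QuotientGroup.mk'_surjective _⟩
    obtain ⟨f, -, hf⟩ := FiniteField.card F 2
    refine ⟨f, F, iF, iFi, ?_, hf, ⟨e'.trans q⟩⟩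
    by_contra hf2
    have hf1 : (f : ℕ) = 1 := by have := f.pos; omega
    rw [hf1, pow_one] at hf
    have hcard : Nat.card G = 6 := by
      rw [Nat.card_congr e'.toEquiv, _root_.Cfsg.Agent.Classical.card_sl2, hf]
      norm_num
    haveI : Fact (Nat.Prime 2) := ⟨Nat.prime_two⟩
    refine hno default (isCyclic_of_prime_card (p := 2) ?_)
    rw [Sylow.card_eq_multiplicity, hcard]
    rw [Nat.factorization_def _ Nat.prime_two]
    rw [show (6 : ℕ) = 2 * 3 from rfl, padicValNat.mul (by norm_num) (by norm_num),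
      padicValNat_self, padicValNat.eq_zero_of_not_dvd (by norm_num), add_zero, pow_one]

end Cfsg.Agent.ItoRankThree
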