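import Mathlib
import Cfsg.Agent.Char.Suborbit
import Cfsg.Agent.Char.Commutant
import Cfsg.Agent.Char.Induced
import Cfsg.Agent.Char.Linear
import Cfsg.Agent.S0898

/-!
# An abelian self-centralising regular subgroup forces two suborbits

`H` is abelian and contains the centraliser of each of its non-identity elements, `C` has index `|H|` and meets no
conjugate of a non-identity element of `H`.  Then every linear character of `H` lies under exactly one constituent of
the permutation character on `G ⧸ C`; two different non-principal constituents would both have degree the size of a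
normaliser orbit of linear characters, which is too small in a simple group.
-/

set_option autoImplicit false

namespace Cfsg.Agent.ItoRankThree

open Cfsg.Agent
open scoped ComplexConjugate

universe u

variable {G : Type u} [Group G]

/-- The configuration. -/
structure CC (H C : Subgroup G) : Prop where
  comm : ∀ a ∈ H, ∀ b ∈ H, a * b = b * a
  cent : ∀ h ∈ H, h ≠ 1 → Subgroup.centralizer ({h} : Set G) = H
  off : ∀ h ∈ H, h ≠ 1 → ∀ x : G, x⁻¹ * h * x ∉ C
  idx : C.index = Nat.card H

/-- Linear characters as functions. -/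
def lf {H : Subgroup G} (l : ↥H →* ℂˣ) : ↥H → ℂ := fun h => (l h : ℂ)

/-- Conjugation by an element of the normaliser. -/
def cj {H : Subgroup G} (n : ↥(Subgroup.normalizer (H : Set G))) : ↥H →* ↥H where
  toFun h := ⟨n * h * (n : G)⁻¹, ((Subgroup.mem_normalizer_iff.1 n.2) h).1 h.2⟩
  map_one' := Subtype.ext (by simp)
  map_mul' a b := Subtype.ext (by simp [mul_assoc])

theorem cj_bijective {H : Subgroup G} (n : ↥(Subgroup.normalizer (H : Set G))) :
    Function.Bijective (cj n) :=
  Function.bijective_iff_has_inverse.2 ⟨cj n⁻¹, fun h => Subtype.ext (by simp [cj, mul_assoc]),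
    fun h => Subtype.ext (by simp [cj, mul_assoc])⟩

theorem lf_mul_conj {H : Subgroup G} [Fintype ↥H] (l μ : ↥H →* ℂˣ) :
    classInner (lf l) (lf μ) = if l = μ then 1 else 0 := by
  classical
  split_ifs with h
  · rw [h]
    exact Char.classInner_irr_self (Char.isIrrCharacter_hom μ)
  · exact Char.classInner_irr_ne (Char.isIrrCharacter_hom l) (Char.isIrrCharacter_hom μ) fun e =>
      h (MonoidHom.ext fun x => Units.ext (congrFun e x))

theorem CC.map_conj_eq {H C : Subgroup G} (hK : CC H C) {g a : G} (hg : g ≠ 1)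
    (h : Subgroup.centralizer ({g} : Set G) ⊓ H.map (MulAut.conj a).toMonoidHom ≠ ⊥) :
    Subgroup.centralizer ({g} : Set G) = H.map (MulAut.conj a).toMonoidHom := by
  obtain ⟨w, hw, hw1⟩ := (Subgroup.bot_or_exists_ne_one _).resolve_left h
  obtain ⟨hwC, hwH⟩ := Subgroup.mem_inf.1 hw
  obtain ⟨k, hk, rfl⟩ := Subgroup.mem_map.1 hwH
  have hk1 : k ≠ 1 := fun e => hw1 (by rw [e, map_one])
  set g' := a⁻¹ * g * a with hg'
  have hg'1 : g' ≠ 1 := fun e => hg (by
    have : a * g' * a⁻¹ = a * 1 * a⁻¹ := by rw [e]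
    simpa [hg', mul_assoc] using this)
  have hg'H : g' ∈ H := by
    rw [← hK.cent k hk hk1, Subgroup.mem_centralizer_singleton_iff]
    have e := Subgroup.mem_centralizer_singleton_iff.1 hwC
    change a * k * a⁻¹ * g = g * (a * k * a⁻¹) at e
    calc g' * k = a⁻¹ * (g * (a * k * a⁻¹)) * a := by simp [hg', mul_assoc]
      _ = a⁻¹ * (a * k * a⁻¹ * g) * a := by rw [e]
      _ = k * g' := by simp [hg', mul_assoc]
  ext z
  rw [Subgroup.mem_map_equiv, ← hK.cent g' hg'H hg'1, Subgroup.mem_centralizer_singleton_iff,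
    Subgroup.mem_centralizer_singleton_iff, MulAut.conj_symm_apply]
  constructor
  · intro e
    calc a⁻¹ * z * a * g' = a⁻¹ * (z * g) * a := by simp [hg', mul_assoc]
      _ = a⁻¹ * (g * z) * a := by rw [e]
      _ = g' * (a⁻¹ * z * a) := by simp [hg', mul_assoc]
  · intro e
    calc z * g = a * (a⁻¹ * z * a * g') * a⁻¹ := by simp [hg', mul_assoc]
      _ = a * (g' * (a⁻¹ * z * a)) * a⁻¹ := by rw [e]
      _ = g * z := by simp [hg', mul_assoc]

theorem two_orbits [Fintype G] [IsSimpleGroup G] {H C : Subgroup G} (hK : CC H C)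
    (hna : ¬ IsMulCommutative G) {e e' : ℕ} (hee : Nat.card H = e * e') (he : 1 < e)
    (hcop : e.Coprime e') (hlt : e * e < Nat.card H) :
    Nat.card (MulAction.orbitRel.Quotient ↥C (G ⧸ C)) = 2 := by
  classical
  letI : CommGroup ↥H :=
    { (inferInstance : Group ↥H) with mul_comm := fun a b => Subtype.ext (hK.comm a a.2 b b.2) }
  letI : Fintype (G ⧸ C) := Fintype.ofFinite _
  have hcardL : Nat.card (↥H →* ℂˣ) = Nat.card H :=
    CommGroup.card_monoidHom_of_hasEnoughRootsOfUnity ↥H ℂ
  haveI : Finite (↥H →* ℂˣ) := Nat.finite_of_card_ne_zero (by rw [hcardL]; exact Nat.card_pos.ne')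
  letI : Fintype (↥H →* ℂˣ) := Fintype.ofFinite _
  -- the permutation character
  set π : G → ℂ := fun g => (Nat.card (MulAction.fixedBy (G ⧸ C) g) : ℂ) with hπ
  have hπc : Cfsg.IsCharacter G π := by
    rw [hπ, ← Char.permRep_character]
    exact Char.isCharacter_of_rep _
  obtain ⟨m, hm, hexp, hnorm⟩ := Char.IsChar.exists_mult hπc
  have hπ1 : π 1 = (Nat.card H : ℂ) := by
    simp only [hπ, MulAction.fixedBy_one_eq_univ]
    rw [Nat.card_congr (Equiv.Set.univ _), ← hK.idx, Subgroup.index_eq_card]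
  have hπH : ∀ h : ↥H, h ≠ 1 → π h = 0 := by
    intro h h1
    have : IsEmpty (MulAction.fixedBy (G ⧸ C) (h : G)) := ⟨fun ⟨q, hq⟩ => by
      obtain ⟨x, rfl⟩ := QuotientGroup.mk_surjective q
      rw [MulAction.mem_fixedBy, MulAction.Quotient.smul_mk, smul_eq_mul, eq_comm,
        QuotientGroup.eq] at hq
      exact hK.off h h.2 (fun e0 => h1 (Subtype.ext e0)) x (by simpa [mul_assoc] using hq)⟩
    simp only [hπ]
    rw [Nat.card_of_isEmpty, Nat.cast_zero]
  -- multiplicities of linear characters in restrictions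
  have hc : ∀ (ψ : IrrCharacter G) (l : ↥H →* ℂˣ),
      ∃ k : ℕ, classInner (fun h : ↥H => (ψ : G → ℂ) h) (lf l) = k := fun ψ l =>
    Char.classInner_isCharacter_eq_natCast (Char.isCharacter_res H (Char.IsIrr.isCharacter ψ.2))
      (Char.IsIrr.isCharacter (Char.isIrrCharacter_hom l))
  choose c hc using hc
  have hone : ∀ l : ↥H →* ℂˣ, ∑ ψ, m ψ * c ψ l = 1 := by
    intro l
    have h1 : classInner (fun h : ↥H => π h) (lf l) = 1 := by
      rw [classInner, Finset.sum_eq_single (1 : ↥H) (fun h _ h1 => by rw [hπH h h1, zero_mul])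
        (by simp)]
      simp only [OneMemClass.coe_one, hπ1, lf, map_one, Units.val_one, mul_one]
      exact inv_mul_cancel₀ (Nat.cast_ne_zero.2 Nat.card_pos.ne')
    have h2 : (fun h : ↥H => π h) =
        ∑ ψ : IrrCharacter G, (m ψ : ℂ) • (fun h : ↥H => (ψ : G → ℂ) h) := by
      funext h
      conv_lhs => rw [hexp]
      simp [Finset.sum_apply]
    rw [h2, Char.classInner_sum_left] at h1
    simp only [Char.classInner_smul_left, hc, ← Nat.cast_mul, ← Nat.cast_sum] at h1
    exact_mod_cast h1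
  have howner : ∀ l : ↥H →* ℂˣ, ∃ ψ, m ψ = 1 ∧ c ψ l = 1 ∧ ∀ ψ', ψ' ≠ ψ → m ψ' * c ψ' l = 0 := by
    intro l
    obtain ⟨ψ, -, hψ⟩ := Finset.exists_ne_zero_of_sum_ne_zero
      (show ∑ ψ, m ψ * c ψ l ≠ 0 by rw [hone l]; exact one_ne_zero)
    have hs := hone l
    rw [← Finset.add_sum_erase _ _ (Finset.mem_univ ψ)] at hs
    have h1 : m ψ * c ψ l = 1 := by omega
    refine ⟨ψ, Nat.eq_one_of_mul_eq_one_right h1, Nat.eq_one_of_mul_eq_one_left h1, fun ψ' hne => ?_⟩
    have h0 : ∑ x ∈ Finset.univ.erase ψ, m x * c x l = 0 := by omega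
    exact Finset.sum_eq_zero_iff.1 h0 ψ' (Finset.mem_erase.2 ⟨hne, Finset.mem_univ _⟩)
  choose o hom ho ho' using howner
  have huniq : ∀ (ψ : IrrCharacter G) l, m ψ ≠ 0 → c ψ l ≠ 0 → o l = ψ := fun ψ l h1 h2 => by
    by_contra hne
    exact mul_ne_zero h1 h2 (ho' l ψ (Ne.symm hne))
  -- the trivial character
  set one' : IrrCharacter G := ⟨fun _ => 1, Char.isIrrCharacter_one⟩ with hone'
  have hc1 : ∀ l, c one' l = if l = 1 then 1 else 0 := by
    intro l
    have h := hc one' l
    rw [show (fun h : ↥H => (one' : G → ℂ) h) = lf (1 : ↥H →* ℂˣ) from funext fun h => by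
      simp [lf, hone'], lf_mul_conj] at h
    rcases eq_or_ne l 1 with rfl | hl
    · rw [if_pos rfl] at h ⊢
      exact_mod_cast h.symm
    · rw [if_neg (Ne.symm hl)] at h
      rw [if_neg hl]
      exact_mod_cast h.symm
  haveI : MulAction.IsPretransitive G (G ⧸ C) := inferInstance
  have hm1 : m one' = 1 := by
    have h := hm one'
    have hsum := MulAction.sum_card_fixedBy_eq_card_orbits_mul_card_group G (G ⧸ C)
    haveI : Subsingleton (Quotient (MulAction.orbitRel G (G ⧸ C))) :=
      (MulAction.pretransitive_iff_subsingleton_quotient G (G ⧸ C)).1 inferInstance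
    haveI : Nonempty (Quotient (MulAction.orbitRel G (G ⧸ C))) := ⟨Quotient.mk _ ((1 : G) : G ⧸ C)⟩
    rw [Fintype.card_eq_one_iff_nonempty_unique.2 ⟨uniqueOfSubsingleton (Classical.arbitrary _)⟩,
      one_mul] at hsum
    simp only [classInner, hπ, hone', map_one, mul_one, Nat.card_eq_fintype_card, ← Nat.cast_sum,
      hsum] at h
    rw [inv_mul_cancel₀ (Nat.cast_ne_zero.2 Fintype.card_ne_zero)] at h
    exact_mod_cast h.symm
  have ho1 : o 1 = one' := huniq _ _ (by rw [hm1]; exact one_ne_zero) (by simp [hc1])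
  have ho1' : ∀ l, o l = one' → l = 1 := fun l h => by
    have := ho l
    rw [h, hc1] at this
    by_contra hl
    simp [hl] at this
  -- degrees
  have hdeg : ∀ ψ : IrrCharacter G, (ψ : G → ℂ) 1 = ((∑ l, c ψ l : ℕ) : ℂ) := by
    intro ψ
    have horth : ∀ h : ↥H, (∑ l : ↥H →* ℂˣ, conj (l h : ℂ)) =
        if h = 1 then (Nat.card H : ℂ) else 0 := by
      intro h
      split_ifs with h1
      · subst h1
        simp [← Nat.card_eq_fintype_card, hcardL]
      · obtain ⟨φ, hφ⟩ := CommGroup.exists_apply_ne_one_of_hasEnoughRootsOfUnity ↥H ℂ h1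
        have hS : (φ h : ℂ) * ∑ l : ↥H →* ℂˣ, (l h : ℂ) = ∑ l : ↥H →* ℂˣ, (l h : ℂ) := by
          rw [Finset.mul_sum]
          exact Fintype.sum_equiv (Equiv.mulLeft φ) _ _ fun l => by simp
        have h0 : ∑ l : ↥H →* ℂˣ, (l h : ℂ) = 0 := by
          refine (mul_left_eq_self₀.1 hS).resolve_left fun e0 => hφ (Units.ext e0)
        rw [← map_sum, h0, map_zero]
    simp only [Nat.cast_sum, ← hc, classInner, lf]
    rw [← Finset.mul_sum, Finset.sum_comm]
    simp only [← Finset.mul_sum, horth, mul_ite, mul_zero, Finset.sum_ite_eq', Finset.mem_univ,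
      if_true, OneMemClass.coe_one]
    rw [mul_comm ((ψ : G → ℂ) 1), ← mul_assoc,
      inv_mul_cancel₀ (Nat.cast_ne_zero.2 Nat.card_pos.ne'), one_mul]
  -- conjugate linear characters have the same multiplicities
  have hinv : ∀ (ψ : IrrCharacter G) n l, c ψ ((l : ↥H →* ℂˣ).comp (cj n)) = c ψ l := by
    intro ψ n l
    have h := hc ψ (l.comp (cj n))
    rw [classInner] at h
    rw [Fintype.sum_equiv (Equiv.ofBijective _ (cj_bijective n)) _
      (fun x : ↥H => (ψ : G → ℂ) x * conj (lf l x)) fun x => by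
        simp only [Equiv.ofBijective_apply, lf, MonoidHom.comp_apply]
        congr 1
        exact ((Char.isClassFunction_of_isIrr ψ.2) (x : G) (n : G)).symm] at h
    have h' := hc ψ l
    rw [classInner] at h'
    rw [h'] at h
    exact_mod_cast h.symm
  -- only `H` fixes a non-trivial linear character
  have hfree : ∀ (l : ↥H →* ℂˣ) n, l ≠ 1 → l.comp (cj n) = l → (n : G) ∈ H := by
    intro l n hl hfix
    by_contra hn
    let d : ↥H →* ↥H := cj n / MonoidHom.id ↥H
    have hinj : Function.Injective d := by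
      rw [← MonoidHom.ker_eq_bot_iff, Subgroup.eq_bot_iff_forall]
      intro h hh
      by_contra h1
      have e0 : cj n h = h := div_eq_one.1 hh
      refine hn ?_
      refine (Subgroup.ext_iff.1 (hK.cent h h.2 (fun e0 => h1 (Subtype.ext e0))) _).1 ?_
      rw [Subgroup.mem_centralizer_singleton_iff]
      have e1 : (n : G) * h * (n : G)⁻¹ = h := congrArg Subtype.val e0
      exact mul_inv_eq_iff_eq_mul.1 e1
    refine hl (MonoidHom.ext fun h => ?_)
    obtain ⟨k, rfl⟩ := (Finite.injective_iff_surjective.1 hinj) h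
    show l (cj n k / k) = 1
    rw [map_div, show l (cj n k) = l k from DFunLike.congr_fun hfix k, div_self']
  -- two non-conjugate characters differ in exactly two places
  have hnorm2 : ∀ l μ : ↥H →* ℂˣ, l ≠ 1 → μ ≠ 1 → (∀ n, l.comp (cj n) ≠ μ) →
      ∑ ψ : IrrCharacter G, ((c ψ l : ℤ) - c ψ μ) ^ 2 = 2 := by
    intro l μ hl hμ hlμ
    set f : ↥H → ℂ := lf l - lf μ with hf
    have hI : Cfsg.IsClassFunction G (indFun H f) := Char.isClassFunction_indFun H f
    have hcoef : ∀ ψ : IrrCharacter G,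
        classInner (indFun H f) (ψ : G → ℂ) = (((c ψ l : ℤ) - c ψ μ : ℤ) : ℂ) := by
      intro ψ
      rw [Char.classInner_indFun_left H f (Char.isClassFunction_of_isIrr ψ.2), hf,
        Char.classInner_sub_left, ← Char.classInner_conj_symm, hc,
        ← Char.classInner_conj_symm (φ := fun h : ↥H => (ψ : G → ℂ) h) (ψ := lf μ), hc]
      simp
    have hself := Char.classInner_eq_sum (f' := indFun H f) hI
    rw [Finset.sum_congr rfl fun ψ _ => by
      rw [← Char.classInner_conj_symm (φ := indFun H f) (ψ := (ψ : G → ℂ)), hcoef ψ, map_intCast,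
        ← pow_two, ← Int.cast_pow], ← Int.cast_sum,
      Char.classInner_indFun_left H f hI] at hself
    -- the values of the induced function on `H`
    set N := Subgroup.normalizer (H : Set G)
    have hval : (fun h : ↥H => indFun H f h) =
        (Nat.card H : ℂ)⁻¹ • ∑ n : ↥N, (fun h : ↥H => f (cj n⁻¹ h)) := by
      funext h
      rw [Pi.smul_apply, Finset.sum_apply, Char.indFun_apply, smul_eq_mul]
      congr 1
      rw [← Finset.sum_filter_add_sum_filter_not Finset.univ (fun x : G => x ∈ N),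
        Finset.sum_eq_zero (s := Finset.univ.filter fun x : G => x ∉ N) fun x hx => ?_, add_zero,
        Finset.sum_subtype (Finset.univ.filter fun x : G => x ∈ N) (p := (· ∈ N)) (by simp)]
      · refine Finset.sum_congr rfl fun n _ => ?_
        rw [show (n : G)⁻¹ * h * n = ((cj n⁻¹ h : ↥H) : G) by simp [cj], Char.extendByZero_coe]
      · rcases eq_or_ne h 1 with rfl | h1
        · have : f 1 = 0 := by simp [hf, lf]
          rw [show x⁻¹ * ((1 : ↥H) : G) * x = ((1 : ↥H) : G) by simp, Char.extendByZero_coe, this]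
        · refine Char.extendByZero_of_not_mem H f fun hm' => (Finset.mem_filter.1 hx).2 ?_
          have hne : x⁻¹ * (h : G) * x ≠ 1 := fun e0 => h1 (Subtype.ext (by
            have : x * (x⁻¹ * (h : G) * x) * x⁻¹ = x * 1 * x⁻¹ := by rw [e0]
            simpa [mul_assoc] using this))
          have hC := hK.cent _ hm' hne
          rw [Subgroup.mem_normalizer_iff]
          intro z
          rw [← hK.cent h h.2 (fun e0 => h1 (Subtype.ext e0))]
          nth_rw 1 [Subgroup.mem_centralizer_singleton_iff]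
          rw [Subgroup.mem_centralizer_singleton_iff]
          have hiff : z ∈ H ↔ z * (x⁻¹ * h * x) = (x⁻¹ * h * x) * z := by
            rw [← Subgroup.mem_centralizer_singleton_iff, hC]
          have hiff' : z ∈ H ↔ z * h = h * z := by
            rw [← Subgroup.mem_centralizer_singleton_iff, hK.cent h h.2 (fun e0 => h1 (Subtype.ext e0))]
          rw [← hiff', hiff]
          constructor
          · intro e0
            calc x * z * x⁻¹ * h = x * (z * (x⁻¹ * h * x)) * x⁻¹ := by simp [mul_assoc]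
              _ = x * (x⁻¹ * h * x * z) * x⁻¹ := by rw [e0]
              _ = h * (x * z * x⁻¹) := by simp [mul_assoc]
          · intro e0
            calc z * (x⁻¹ * h * x) = x⁻¹ * (x * z * x⁻¹ * h) * x := by simp [mul_assoc]
              _ = x⁻¹ * (h * (x * z * x⁻¹)) * x := by rw [e0]
              _ = x⁻¹ * h * x * z := by simp [mul_assoc]
    rw [hval, Char.classInner_smul_right, Char.classInner_sum_right, map_inv₀, Complex.conj_natCast]
      at hself
    have hterm : ∀ n : ↥N, classInner f (fun h : ↥H => f (cj n⁻¹ h)) =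
        if (n : G) ∈ H then 2 else 0 := by
      intro n
      rw [show (fun h : ↥H => f (cj n⁻¹ h)) = lf (l.comp (cj n⁻¹)) - lf (μ.comp (cj n⁻¹)) from
        funext fun h => by simp [hf, lf], hf, Char.classInner_sub_left, Char.classInner_sub_right,
        Char.classInner_sub_right, lf_mul_conj, lf_mul_conj, lf_mul_conj, lf_mul_conj]
      have h1 : l ≠ μ.comp (cj n⁻¹) := fun e0 => hlμ n (by
        rw [e0]
        ext h
        simp [cj, mul_assoc])
      rw [if_neg h1, if_neg (hlμ n⁻¹).symm]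
      by_cases hn : (n : G) ∈ H
      · have hid : ∀ k : ↥H →* ℂˣ, k.comp (cj n⁻¹) = k := fun k => MonoidHom.ext fun h => by
          rw [MonoidHom.comp_apply]
          congr 1
          apply Subtype.ext
          show ((n⁻¹ : ↥N) : G) * h * ((n⁻¹ : ↥N) : G)⁻¹ = h
          rw [InvMemClass.coe_inv, hK.comm _ (inv_mem hn) _ h.2, mul_inv_cancel_right]
        rw [hid, hid, if_pos rfl, if_pos rfl, if_pos hn]
        norm_num
      · have hl' : l ≠ l.comp (cj n⁻¹) := fun e0 => hn (by
          simpa using hfree l n⁻¹ hl e0.symm)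
        have hμ' : μ ≠ μ.comp (cj n⁻¹) := fun e0 => hn (by
          simpa using hfree μ n⁻¹ hμ e0.symm)
        rw [if_neg hl', if_neg hμ', if_neg hn]
        norm_num
    rw [Finset.sum_congr rfl fun n _ => hterm n, ← Finset.sum_filter, Finset.sum_const,
      ← Fintype.card_subtype, ← Nat.card_eq_fintype_card,
      show Nat.card {x : ↥N // (x : G) ∈ H} = Nat.card H from
        Nat.card_congr (Subgroup.subgroupOfEquivOfLe (H.le_normalizer)).toEquiv, nsmul_eq_mul,
      ← mul_assoc, inv_mul_cancel₀ (Nat.cast_ne_zero.2 Nat.card_pos.ne'), one_mul] at hself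
    exact_mod_cast hself.symm
  -- a character of `H` whose order divides `e`
  obtain ⟨h₀, hh₀, hh₀1⟩ : ∃ h₀ : ↥H, h₀ ^ e = 1 ∧ h₀ ≠ 1 := by
    obtain ⟨r, hr, hre⟩ := Nat.exists_prime_and_dvd (show e ≠ 1 by omega)
    haveI : Fact r.Prime := ⟨hr⟩
    obtain ⟨h₀, hh₀⟩ := exists_prime_orderOf_dvd_card' (G := ↥H) r (hee ▸ hre.mul_right e')
    exact ⟨h₀, orderOf_dvd_iff_pow_eq_one.1 (hh₀ ▸ hre),
      fun e0 => hr.ne_one (by rw [← hh₀, e0, orderOf_one])⟩
  obtain ⟨φ, hφ⟩ := CommGroup.exists_apply_ne_one_of_hasEnoughRootsOfUnity ↥H ℂ hh₀1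
  have huce : ∀ u : ℂˣ, u ^ e = 1 → u ^ e' = 1 → u = 1 := fun u h1 h2 => by
    have := pow_gcd_eq_one.2 ⟨h1, h2⟩
    rwa [Nat.Coprime.gcd_eq_one hcop, pow_one] at this
  set l₀ := φ ^ e' with hl₀
  have hl₀e : l₀ ^ e = 1 := MonoidHom.ext fun h => by
    rw [hl₀, ← pow_mul, mul_comm, ← hee, MonoidHom.pow_apply, ← map_pow, pow_card_eq_one',
      map_one, MonoidHom.one_apply]
  have hl₀1 : l₀ ≠ 1 := fun e0 => hφ (huce _ (by rw [← map_pow, hh₀, map_one]) (by
    rw [← MonoidHom.pow_apply, ← hl₀, e0, MonoidHom.one_apply]))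
  -- one owner
  have hsingle : ∀ μ : ↥H →* ℂˣ, μ ≠ 1 → o μ = o l₀ := by
    by_contra hex
    push Not at hex
    obtain ⟨μ, hμ, hne⟩ := hex
    set χ := o l₀ with hχ
    have hχ1 : χ ≠ one' := fun h => hl₀1 (ho1' _ h)
    -- every character under `χ` is conjugate to `l₀`
    have horb : ∀ l : ↥H →* ℂˣ, c χ l ≠ 0 → ∃ n, l₀.comp (cj n) = l := by
      intro l hl
      by_contra hn
      push Not at hn
      have hol : o l = χ := huniq χ l (by rw [hom l₀]; exact one_ne_zero) hl
      have hl1 : l ≠ 1 := fun h => hχ1 (by rw [← hol, h, ho1])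
      have hnc : ∀ a : ↥H →* ℂˣ, o a = χ → ∀ n, a.comp (cj n) ≠ μ := by
        intro a ha n hn'
        refine hne (huniq χ μ (by rw [hom l₀]; exact one_ne_zero) ?_)
        rw [← hn', hinv, ← ha, ho a]
        exact one_ne_zero
      have key : ∀ a : ↥H →* ℂˣ, o a = χ → a ≠ 1 → ∀ ψ, ψ ≠ χ → ψ ≠ o μ → c ψ a = c ψ μ := by
        intro a ha ha1 ψ h1 h2
        have h := hnorm2 a μ ha1 hμ (hnc a ha)
        have hχμ : χ ≠ o μ := fun e0 => hne e0.symm
        rw [← Finset.add_sum_erase _ _ (Finset.mem_univ χ), ← Finset.add_sum_erase _ _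
          (Finset.mem_erase.2 ⟨Ne.symm hχμ, Finset.mem_univ (o μ)⟩)] at h
        have e1 : c χ a = 1 := ha ▸ ho a
        have e2 : c χ μ = 0 := by
          have := ho' μ χ hχμ
          rwa [hom l₀, one_mul] at this
        have e3 : c (o μ) a = 0 := by
          have := ho' a (o μ) (ha.symm ▸ Ne.symm hχμ)
          rwa [hom μ, one_mul] at this
        rw [e1, e2, e3, ho μ] at h
        have h0 : ∑ x ∈ (Finset.univ.erase χ).erase (o μ), ((c x a : ℤ) - c x μ) ^ 2 = 0 := by
          push_cast at h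
          linarith
        have := (Finset.sum_eq_zero_iff_of_nonneg (fun x _ => sq_nonneg _)).1 h0 ψ
          (Finset.mem_erase.2 ⟨h2, Finset.mem_erase.2 ⟨h1, Finset.mem_univ _⟩⟩)
        have := sq_eq_zero_iff.1 this
        omega
      have hzero : ∀ ψ, c ψ l₀ = c ψ l := by
        intro ψ
        by_cases h1 : ψ = χ
        · rw [h1, ho l₀, ← hol, ho l]
        by_cases h2 : ψ = o μ
        · subst h2
          have a1 := ho' l₀ (o μ) hne
          have a2 := ho' l (o μ) (hol.symm ▸ hne)
          rw [hom μ, one_mul] at a1 a2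
          rw [a1, a2]
        rw [key l₀ rfl hl₀1 ψ h1 h2, key l hol hl1 ψ h1 h2]
      have := hnorm2 l₀ l hl₀1 hl1 hn
      simp [hzero] at this
    -- so its degree is small
    let P : Subgroup ↥H := (powMonoidHom e : ↥H →* ↥H).ker
    have hPe : Nat.card P ∣ e := by
      refine Nat.Coprime.dvd_of_dvd_mul_right (n := e') ?_ (hee ▸ Subgroup.card_subgroup_dvd_card P)
      refine Nat.coprime_of_dvd fun r hr h1 h2 => ?_
      haveI : Fact r.Prime := ⟨hr⟩
      obtain ⟨z, hz⟩ := exists_prime_orderOf_dvd_card' (G := P) r h1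
      have hze : z ^ e = 1 := Subtype.ext (MonoidHom.mem_ker.1 z.2)
      exact hr.one_lt.ne' (Nat.eq_one_of_dvd_coprimes hcop (hz ▸ orderOf_dvd_of_pow_eq_one hze) h2)
    have hsub : ∀ l : ↥H →* ℂˣ, c χ l ≠ 0 → l ^ e = 1 ∧ l ≠ 1 := by
      intro l hl
      obtain ⟨n, rfl⟩ := horb l hl
      refine ⟨MonoidHom.ext fun h => by
        rw [MonoidHom.pow_apply, MonoidHom.comp_apply, ← MonoidHom.pow_apply, hl₀e]
        rfl, fun h => ?_⟩
      exact hχ1 (by rw [← huniq χ _ (by rw [hom l₀]; exact one_ne_zero) hl, h, ho1])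
    haveI : Finite (↥P →* ℂˣ) := Nat.finite_of_card_ne_zero (by
      rw [CommGroup.card_monoidHom_of_hasEnoughRootsOfUnity ↥P ℂ]
      exact Nat.card_pos.ne')
    letI : Fintype (↥P →* ℂˣ) := Fintype.ofFinite _
    set S := Finset.univ.filter fun l : ↥H →* ℂˣ => l ^ e = 1 with hS
    have hScard : S.card ≤ e := by
      refine le_trans ?_ (Nat.le_of_dvd (by omega) hPe)
      rw [← CommGroup.card_monoidHom_of_hasEnoughRootsOfUnity ↥P ℂ, Nat.card_eq_fintype_card,
        ← Finset.card_univ]
      refine Finset.card_le_card_of_injOn (fun l => l.comp P.subtype) (fun _ _ => Finset.mem_coe.2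
        (Finset.mem_univ _)) ?_
      intro a ha b hb hab
      simp only [hS, Finset.coe_filter, Finset.mem_univ, true_and, Set.mem_setOf_eq] at ha hb
      refine MonoidHom.ext fun h => div_eq_one.1 (huce _ ?_ ?_)
      · rw [div_pow, ← MonoidHom.pow_apply, ha, ← MonoidHom.pow_apply, hb]
        simp
      · have hmem : h ^ e' ∈ P := by
          rw [MonoidHom.mem_ker, powMonoidHom_apply, ← pow_mul, mul_comm, ← hee, pow_card_eq_one']
        have := DFunLike.congr_fun hab ⟨_, hmem⟩
        simp only [MonoidHom.comp_apply, Subgroup.coe_subtype, map_pow] at this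
        rw [div_pow, this, div_self']
    have hd : ∑ l, c χ l ≤ e - 1 := by
      calc ∑ l, c χ l ≤ ∑ l : ↥H →* ℂˣ, if l ∈ S.erase 1 then 1 else 0 := by
            refine Finset.sum_le_sum fun l _ => ?_
            by_cases hl : c χ l = 0
            · rw [hl]; exact Nat.zero_le _
            · have hol := huniq χ l (by rw [hom l₀]; exact one_ne_zero) hl
              rw [if_pos (Finset.mem_erase.2 ⟨(hsub l hl).2,
                Finset.mem_filter.2 ⟨Finset.mem_univ _, (hsub l hl).1⟩⟩), ← hol, ho l]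
        _ = (S.erase 1).card := by
          rw [Finset.sum_boole, Finset.filter_mem_eq_inter, Finset.univ_inter, Nat.cast_id]
        _ ≤ e - 1 := by
            rw [Finset.card_erase_of_mem (show (1 : ↥H →* ℂˣ) ∈ S from
              Finset.mem_filter.2 ⟨Finset.mem_univ _, MonoidHom.ext fun h => by simp⟩)]
            omega
    have hHbot : H ≠ ⊥ := fun h => hh₀1 (Subtype.ext ((Subgroup.mem_bot).1 (h.le h₀.2)))
    have hZ : Subgroup.center G = ⊥ := by
      refine ((inferInstance : (Subgroup.center G).Normal).eq_bot_or_eq_top).resolve_right fun h => ?_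
      exact hna ⟨⟨fun a b => ((Subgroup.mem_center_iff.1 (h.symm.le (Subgroup.mem_top a))) b).symm⟩⟩
    have hFT := S0898.result H hK.comm (by rw [hZ, inf_bot_eq]) (fun g hg a b ha hb => by
      have hg1 : g ≠ 1 := fun e0 => hg (e0 ▸ one_mem _)
      rw [← hK.map_conj_eq hg1 ha, ← hK.map_conj_eq hg1 hb]) (χ : G → ℂ) χ.2 (by
        by_contra hall
        push Not at hall
        have hcst : c χ l₀ = 0 := by
          have h := hc χ l₀
          rw [show (fun h : ↥H => (χ : G → ℂ) h) = (χ : G → ℂ) 1 • lf (1 : ↥H →* ℂˣ) from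
            funext fun h => by simp [lf, hall h h.2], Char.classInner_smul_left, lf_mul_conj,
            if_neg (Ne.symm hl₀1), mul_zero] at h
          exact_mod_cast h.symm
        rw [ho l₀] at hcst
        exact one_ne_zero hcst)
    have hne1 : (χ : G → ℂ) 1 ≠ 1 := fun h1 => by
      obtain ⟨ν, hν⟩ := Char.IsChar.exists_hom (Char.IsIrr.isCharacter χ.2) h1
      rcases (inferInstance : ν.ker.Normal).eq_bot_or_eq_top with hk | hk
      · exact hna ⟨⟨fun a b => (MonoidHom.ker_eq_bot_iff ν).1 hk (by rw [map_mul, map_mul, mul_comm])⟩⟩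
      · exact hχ1 (Subtype.ext (funext fun g => by
          rw [hν]
          simp [hone', MonoidHom.mem_ker.1 (hk.symm.le (Subgroup.mem_top g))]))
    have h2 := hFT.2 hne1 (fun M hM hHM => hM.eq_bot_or_eq_top.resolve_left fun h =>
      hHbot (le_bot_iff.1 (h ▸ hHM)))
    rw [hdeg χ, Complex.natCast_re] at h2
    have h3 : Nat.card H < (1 + ∑ l, c χ l) ^ 2 := by exact_mod_cast h2
    have h4 : (1 + ∑ l, c χ l) ^ 2 ≤ e ^ 2 := Nat.pow_le_pow_left (by omega) 2
    rw [pow_two e] at h4
    omega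
  -- the norm is two
  have hnorm' := Char.pi_inner_self (G := G) (Ω := G ⧸ C) ((1 : G) : G ⧸ C)
  rw [hnorm] at hnorm'
  have hnum : ∑ ψ, m ψ ^ 2 = Nat.card (MulAction.orbitRel.Quotient
      ↥(MulAction.stabilizer G ((1 : G) : G ⧸ C)) (G ⧸ C)) := by exact_mod_cast hnorm'
  rw [MulAction.stabilizer_quotient] at hnum
  rw [← hnum]
  have hsupp : ∀ ψ, m ψ ≠ 0 → ψ = one' ∨ ψ = o l₀ := by
    intro ψ hψ
    obtain ⟨d, hd0, hd⟩ := Char.IsIrr.degree ψ.2
    rw [hdeg ψ] at hd
    obtain ⟨l, -, hl⟩ := Finset.exists_ne_zero_of_sum_ne_zero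
      (show ∑ l, c ψ l ≠ 0 by rw [Nat.cast_inj.1 hd]; omega)
    rw [← huniq ψ l hψ hl]
    by_cases h1 : l = 1
    · exact Or.inl (h1 ▸ ho1)
    · exact Or.inr (hsingle l h1)
  have hne : one' ≠ o l₀ := fun h => hl₀1 (ho1' _ h.symm)
  rw [← Finset.sum_subset (Finset.subset_univ ({one', o l₀} : Finset (IrrCharacter G)))
    (fun ψ _ hψ => by
      by_contra h0
      rcases hsupp ψ (fun e0 => h0 (by rw [e0]; rfl)) with h | h <;>
        simp [h] at hψ), Finset.sum_pair hne, hm1, hom]
  norm_num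

end Cfsg.Agent.ItoRankThree
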