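import Mathlib
import Cfsg.Agent.ItoRankThree.Basic
import Cfsg.Agent.ItoRankThree.CC
import Cfsg.Agent.S0143
import Cfsg.Agent.S4146
import Cfsg.Agent.S4355

/-!
# Simple groups with three non-trivial class sizes

If no class size properly divides another, every 2-element has a class of odd size and the centralisers of involutions
are abelian.  Otherwise the sizes are `m`, `l`, `m * k` with `(m, l) = 1` and `k` a proper divisor of `l`; then an
element of prime order with class size `l` has an abelian, self-centralising centraliser of order `m`.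
-/

set_option autoImplicit false

namespace Cfsg.Agent.ItoRankThree

open Cfsg.Agent.CoprimeClass

universe u

variable {G : Type u} [Group G] [Finite G]

omit [Finite G] in
theorem sz_one : sz (1 : G) = 1 :=
  Subgroup.index_eq_one.2 ((Subgroup.eq_top_iff' _).2 fun x => mem_cz.2 (by simp))

theorem IsPSLTwo.of_odd_sizes (hG : NS G)
    (hodd : ∀ x : G, (∃ k : ℕ, orderOf x = 2 ^ k) → ¬ 2 ∣ sz x)
    (hmax : ∀ t : G, orderOf t = 2 → ∀ w : G, w ≠ 1 → sz t ∣ sz w → sz w = sz t) : IsPSLTwo G := by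
  refine IsPSLTwo.of_abelian hG fun t ht =>
    abelian_of_odd_central _ (fun v hv hv2 => ?_) (fun P => S4355.result hodd P)
  have hcop : (orderOf t).Coprime (orderOf v) := ht ▸ Nat.coprime_two_left.2 hv2
  have e := cz_mul (mem_cz.1 hv).symm hcop
  have hle : cz (t * v) ≤ cz t := e ▸ inf_le_left
  have := hmax t ht _ (mul_ne_one (ne_one_of_orderOf Nat.prime_two ht) hcop) (sz_dvd_of_le hle)
  rw [← eq_of_le_of_sz_eq hle this, e]
  exact inf_le_right

theorem IsPSLTwo.of_flat (hG : NS G)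
    (hflat : ∀ a b : G, a ≠ 1 → b ≠ 1 → sz a ∣ sz b → sz a = sz b) : IsPSLTwo G := by
  haveI : Fact (Nat.Prime 2) := ⟨Nat.prime_two⟩
  refine IsPSLTwo.of_odd_sizes hG (fun x ⟨k, hk⟩ => ?_) fun t ht w hw h =>
    (hflat t w (ne_one_of_orderOf Nat.prime_two ht) hw h).symm
  rcases eq_or_ne x 1 with rfl | hx
  · rw [sz_one]
    decide
  let S : Sylow 2 G := default
  obtain ⟨g, hg⟩ := exists_conj_mem_sylow hk S
  obtain ⟨t, ht, hSt, hodd⟩ := exists_sylow_center (even_iff_two_dvd.1 hG.even_card) S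
  rw [← sz_conj g x]
  set v := g * x * g⁻¹ with hv
  have hv1 : v ≠ 1 := fun e => hx (conj_eq_one_iff.1 e)
  have hv2 : orderOf v = 2 ^ k := by rw [← hk, hv, orderOf_injective (MulAut.conj g).toMonoidHom
    (MulAut.conj g).injective x |>.symm]; rfl
  have ht1 := ne_one_of_orderOf Nat.prime_two ht
  suffices sz v = sz t by rw [this]; exact hodd
  by_cases hw : ∃ r : ℕ, r.Prime ∧ r ≠ 2 ∧ r ∣ Nat.card (cz v)
  · obtain ⟨r, hr, hr2, hrd⟩ := hw
    haveI : Fact r.Prime := ⟨hr⟩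
    obtain ⟨w, hwo⟩ := exists_prime_orderOf_dvd_card' (G := cz v) r hrd
    have hwo' : orderOf (w : G) = r := by rw [Subgroup.orderOf_coe, hwo]
    have hw1 := ne_one_of_orderOf hr hwo'
    have hcop : (orderOf v).Coprime (orderOf (w : G)) := by
      rw [hv2, hwo']
      exact Nat.Coprime.pow_left _ ((Nat.coprime_primes Nat.prime_two hr).2 (Ne.symm hr2))
    have e := cz_mul (mem_cz.1 w.2).symm hcop
    have hne := mul_ne_one hv1 hcop
    have h1 : cz (v * (w : G)) ≤ cz v := e ▸ inf_le_left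
    have h2 : cz (v * (w : G)) ≤ cz (w : G) := e ▸ inf_le_right
    have e1 := hflat v _ hv1 hne (sz_dvd_of_le h1)
    have e2 := hflat (w : G) _ hw1 hne (sz_dvd_of_le h2)
    have hvw : cz v = cz (w : G) :=
      (eq_of_le_of_sz_eq h1 e1.symm).symm.trans (eq_of_le_of_sz_eq h2 e2.symm)
    have htw : t ∈ cz (w : G) := hvw ▸ mem_cz.2 (mem_cz.1 (hSt hg)).symm
    have hcop' : (orderOf t).Coprime (orderOf (w : G)) := by
      rw [ht, hwo']
      exact (Nat.coprime_primes Nat.prime_two hr).2 (Ne.symm hr2)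
    have e' := cz_mul (show Commute t (w : G) from mem_cz.1 htw) hcop'
    have hne' := mul_ne_one ht1 hcop'
    have e3 := hflat t _ ht1 hne' (sz_dvd_of_le (e' ▸ inf_le_left : cz (t * (w : G)) ≤ cz t))
    have e4 := hflat (w : G) _ hw1 hne' (sz_dvd_of_le (e' ▸ inf_le_right : cz (t * (w : G)) ≤ cz (w : G)))
    rw [e1, ← e2, e4, ← e3]
  · push Not at hw
    have hp : ∀ d : ℕ, d.Prime → d ∣ Nat.card (cz v) → d = 2 := fun d hd hdd => by
      by_contra h
      exact hw d hd h hdd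
    have hcard := Nat.eq_prime_pow_of_unique_prime_dvd Nat.card_pos.ne' (fun {d} hd hdd => hp d hd hdd)
    have hdvd : Nat.card (cz v) ∣ Nat.card (cz t) := by
      rw [hcard]
      refine dvd_trans ?_ (Subgroup.card_dvd_of_le hSt)
      exact S.pow_dvd_card_of_pow_dvd_card (hcard ▸ Subgroup.card_subgroup_dvd_card _)
    obtain ⟨c, hc⟩ := hdvd
    refine (hflat t v ht1 hv1 ⟨c, ?_⟩).symm
    have h1 := (cz v).card_mul_index
    have h2 := (cz t).card_mul_index
    rw [hc, mul_assoc] at h2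
    rw [← h2] at h1
    rw [mul_comm (sz t) c]
    exact Nat.eq_of_mul_eq_mul_left Nat.card_pos h1

/-- The sizes `m`, `l` and `m * k`. -/
structure Cfg (G : Type u) [Group G] (m l k : ℕ) : Prop where
  ns : NS G
  sizes : ∀ x : G, x ≠ 1 → sz x = m ∨ sz x = l ∨ sz x = m * k
  exm : ∃ x : G, x ≠ 1 ∧ sz x = m
  exl : ∃ x : G, x ≠ 1 ∧ sz x = l
  cop : m.Coprime l
  one_lt_k : 1 < k
  k_dvd : k ∣ l
  k_ne : k ≠ l

namespace Cfg

variable {m l k : ℕ} (D : Cfg G m l k)
include D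

theorem one_lt_m : 1 < m := by
  obtain ⟨x, hx, e⟩ := D.exm
  exact e ▸ D.ns.one_lt_sz hx

theorem one_lt_l : 1 < l := by
  obtain ⟨x, hx, e⟩ := D.exl
  exact e ▸ D.ns.one_lt_sz hx

theorem not_l_dvd_mk : ¬ l ∣ m * k := fun h =>
  D.k_ne (Nat.dvd_antisymm D.k_dvd (D.cop.symm.dvd_of_dvd_mul_left h))

theorem not_m_dvd_l : ¬ m ∣ l := fun h =>
  D.one_lt_m.ne' (Nat.eq_one_of_dvd_coprimes D.cop dvd_rfl h)

theorem not_mk_dvd_m : ¬ m * k ∣ m := fun h => by
  have := Nat.le_of_dvd (by have := D.one_lt_m; omega) h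
  have := D.one_lt_m
  nlinarith [D.one_lt_k]

theorem eq_l {w : G} (hw : w ≠ 1) (h : l ∣ sz w) : sz w = l := by
  rcases D.sizes w hw with e | e | e
  · exact absurd (dvd_mul_of_dvd_left (e ▸ h) k) D.not_l_dvd_mk
  · exact e
  · exact absurd (e ▸ h) D.not_l_dvd_mk

theorem eq_mk {w : G} (hw : w ≠ 1) (h : m * k ∣ sz w) : sz w = m * k := by
  rcases D.sizes w hw with e | e | e
  · exact absurd (e ▸ h) D.not_mk_dvd_m
  · exact absurd ((dvd_mul_right m k).trans (e ▸ h)) D.not_m_dvd_l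
  · exact e

theorem never_commute {x y : G} (hx : x ≠ 1) (hy : y ≠ 1) (h1 : sz x = m) (h2 : sz y = l) :
    ¬ Commute x y :=
  D.ns.not_commute hx hy (by rw [h1, h2]; exact D.cop)

theorem cz_eq {u v : G} (hu : u ≠ 1) (hv : v ≠ 1) (hul : sz u = l) (hc : Commute u v)
    (hcop : (orderOf u).Coprime (orderOf v)) : sz v = l ∧ cz v = cz u := by
  have e := cz_mul hc hcop
  have hne := mul_ne_one hu hcop
  have h1 : cz (u * v) ≤ cz u := e ▸ inf_le_left
  have h2 : cz (u * v) ≤ cz v := e ▸ inf_le_right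
  have huv : sz (u * v) = l := D.eq_l hne (hul ▸ sz_dvd_of_le h1)
  have hvl : sz v = l := by
    rcases D.sizes v hv with h | h | h
    · exact absurd hc.symm (D.never_commute hv hu h hul)
    · exact h
    · exact absurd ((dvd_mul_right m k).trans (by rw [← h, ← huv]; exact sz_dvd_of_le h2)) D.not_m_dvd_l
  exact ⟨hvl, (eq_of_le_of_sz_eq h2 (huv.trans hvl.symm)).symm.trans
    (eq_of_le_of_sz_eq h1 (huv.trans hul.symm))⟩

theorem two_primes : ∀ q : ℕ, ∃ r : ℕ, r.Prime ∧ r ≠ q ∧ r ∣ m := by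
  intro q
  obtain ⟨x, hx, e⟩ := D.exm
  by_contra hno
  push Not at hno
  have hp : ∀ {d : ℕ}, d.Prime → d ∣ m → d = q := fun {d} hd hdd => by
    by_contra h
    exact hno d hd h hdd
  obtain ⟨r, hr, hrm⟩ := Nat.exists_prime_and_dvd D.one_lt_m.ne'
  obtain rfl : r = q := hp hr hrm
  haveI := D.ns.simple
  have h := S0143.result r _ hr x hx (e.trans (Nat.eq_prime_pow_of_unique_prime_dvd
    (by have := D.one_lt_m; omega) hp))
  haveI : Fact (Nat.card G).Prime := ⟨h⟩
  haveI := isCyclic_of_prime_card (α := G) rfl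
  exact D.ns.na IsCyclic.isMulCommutative

theorem dvd_card_cz {y : G} (hy : sz y = l) : m ∣ Nat.card (cz y) := by
  obtain ⟨x, hx, e⟩ := D.exm
  have h := (cz y).card_mul_index
  rw [show (cz y).index = l from hy] at h
  exact D.cop.dvd_of_dvd_mul_right (by rw [h, ← e]; exact sz_dvd_card x)

/-- The centraliser of an element of prime order with class size `l`. -/
theorem centraliser_facts {y : G} {q : ℕ} (hq : q.Prime) (hyo : orderOf y = q) (hy : sz y = l) :
    (∀ a ∈ cz y, ∀ b ∈ cz y, a * b = b * a) ∧ (∀ h ∈ cz y, h ≠ 1 → cz h = cz y) := by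
  have hy1 := ne_one_of_orderOf hq hyo
  haveI : Fact q.Prime := ⟨hq⟩
  have hpp : ∀ (w : G) (r a : ℕ), r.Prime → orderOf w = r ^ a → w ≠ 1 → w ∈ cz y → cz w = cz y := by
    intro w r a hr hwo hw1 hw
    rcases eq_or_ne r q with rfl | hrq
    · obtain ⟨r', hr', hr'q, hr'm⟩ := D.two_primes r
      haveI : Fact r'.Prime := ⟨hr'⟩
      obtain ⟨v, hv⟩ := exists_prime_orderOf_dvd_card' (G := cz y) r' (hr'm.trans (D.dvd_card_cz hy))
      have hvo : orderOf (v : G) = r' := by rw [Subgroup.orderOf_coe, hv]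
      have hv1 := ne_one_of_orderOf hr' hvo
      obtain ⟨hvl, hvy⟩ := D.cz_eq hy1 hv1 hy (mem_cz.1 v.2).symm
        (by rw [hyo, hvo]; exact (Nat.coprime_primes hr hr').2 (Ne.symm hr'q))
      rw [← hvy]
      have hwv : w ∈ cz (v : G) := (SetLike.ext_iff.1 hvy w).2 hw
      exact (D.cz_eq hv1 hw1 hvl (mem_cz.1 hwv).symm (by
        rw [hvo, hwo]
        exact Nat.Coprime.pow_right _ ((Nat.coprime_primes hr' hr).2 hr'q))).2
    · exact (D.cz_eq hy1 hw1 hy (mem_cz.1 hw).symm (by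
        rw [hyo, hwo]
        exact Nat.Coprime.pow_right _ ((Nat.coprime_primes hq hr).2 (Ne.symm hrq)))).2
  have hcomm : ∀ a ∈ cz y, ∀ b ∈ cz y, a * b = b * a := by
    intro a ha b hb
    have : b ∈ Subgroup.centralizer (cz y : Set G) := mem_of_parts _ b fun d hd r c hr hdo => by
      rw [Subgroup.mem_centralizer_iff]
      intro z hz
      rcases eq_or_ne d 1 with rfl | hd1
      · simp
      · have hdy : d ∈ cz y := (Subgroup.zpowers_le.2 hb) hd
        exact mem_cz.1 ((hpp d r c hr hdo hd1 hdy).symm ▸ hz)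
    exact Subgroup.mem_centralizer_iff.1 this a ha
  refine ⟨hcomm, fun h hh h1 => le_antisymm ?_ fun z hz => mem_cz.2 (hcomm z hz h hh)⟩
  obtain ⟨p, z, hp, hzo, hzle, hzh⟩ := exists_prime_order_le h1
  rw [← hpp z p 1 hp (by rw [pow_one, hzo]) (ne_one_of_orderOf hp hzo) ((Subgroup.zpowers_le.2 hh) hzh)]
  exact hzle

theorem card_facts {x y : G} {q : ℕ} (hq : q.Prime) (hyo : orderOf y = q) (hy : sz y = l)
    (hx1 : x ≠ 1) (hx : sz x = m) :
    (∀ h ∈ cz y, h ≠ 1 → ∀ g : G, g⁻¹ * h * g ∉ cz x) ∧ Nat.card (cz y) = m ∧ Nat.card (cz x) = l := by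
  obtain ⟨-, hcent⟩ := D.centraliser_facts hq hyo hy
  have hoff : ∀ h ∈ cz y, h ≠ 1 → ∀ g : G, g⁻¹ * h * g ∉ cz x := by
    intro h hh h1 g hg
    refine D.never_commute hx1 (fun e => h1 ?_) hx ?_ (mem_cz.1 hg).symm
    · have : g * (g⁻¹ * h * g) * g⁻¹ = g * 1 * g⁻¹ := by rw [e]
      simpa [mul_assoc] using this
    · rw [← hy]
      have := sz_conj g⁻¹ h
      rw [inv_inv] at this
      rw [this]
      exact congrArg Subgroup.index (hcent h hh h1)
  have hbot : cz x ⊓ cz y = ⊥ := (Subgroup.eq_bot_iff_forall _).2 fun h hh => by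
    by_contra h1
    exact hoff h hh.2 h1 1 (by simpa using hh.1)
  have hcard : Nat.card G = m * l := by
    rw [← Subgroup.index_bot, ← hbot, inf_index (by rw [hx, hy]; exact D.cop), hx, hy]
  have h1 := (cz y).card_mul_index
  have h2 := (cz x).card_mul_index
  rw [show (cz y).index = l from hy, hcard] at h1
  rw [show (cz x).index = m from hx, hcard, mul_comm m l] at h2
  have := D.one_lt_m
  have := D.one_lt_l
  exact ⟨hoff, Nat.eq_of_mul_eq_mul_right (by omega) h1, Nat.eq_of_mul_eq_mul_right (by omega) h2⟩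

theorem exists_prime_l : ∃ (q : ℕ) (y : G), q.Prime ∧ orderOf y = q ∧ sz y = l := by
  obtain ⟨y₀, hy₀, e⟩ := D.exl
  obtain ⟨q, y, hq, hyo, hle, -⟩ := exists_prime_order_le hy₀
  have hd : sz y ∣ l := e ▸ sz_dvd_of_le hle
  refine ⟨q, y, hq, hyo, ?_⟩
  rcases D.sizes y (ne_one_of_orderOf hq hyo) with h | h | h
  · exact absurd (h ▸ hd) D.not_m_dvd_l
  · exact h
  · exact absurd ((dvd_mul_right m k).trans (h ▸ hd)) D.not_m_dvd_l

theorem exists_prime_m : ∃ (p : ℕ) (x : G), p.Prime ∧ orderOf x = p ∧ sz x = m := by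
  obtain ⟨x₀, hx₀, e⟩ := D.exm
  obtain ⟨p, x, hp, hxo, hle, -⟩ := exists_prime_order_le hx₀
  have hd : sz x ∣ m := e ▸ sz_dvd_of_le hle
  refine ⟨p, x, hp, hxo, ?_⟩
  rcases D.sizes x (ne_one_of_orderOf hp hxo) with h | h | h
  · exact h
  · exact absurd (dvd_mul_of_dvd_left (h ▸ hd) k) D.not_l_dvd_mk
  · exact absurd (h ▸ hd) D.not_mk_dvd_m

theorem card_group : Nat.card G = m * l := by
  obtain ⟨q, y, hq, hyo, hy⟩ := D.exists_prime_l
  obtain ⟨x, hx1, hx⟩ := D.exm
  have h := (D.card_facts hq hyo hy hx1 hx).2.1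
  rw [← (cz y).card_mul_index, h, show (cz y).index = l from hy]

theorem exists_split : ∃ e e' : ℕ, m = e * e' ∧ 1 < e ∧ e.Coprime e' ∧ e * e < m := by
  have hm0 : m ≠ 0 := by have := D.one_lt_m; omega
  obtain ⟨p, hp, -, hpm⟩ := D.two_primes 0
  obtain ⟨r, hr, hrp, hrm⟩ := D.two_primes p
  have key : ∀ p r : ℕ, p.Prime → r.Prime → r ≠ p → p ∣ m → r ∣ m →
      ordProj[r] m < ordProj[p] m → ∃ e e' : ℕ, m = e * e' ∧ 1 < e ∧ e.Coprime e' ∧ e * e < m := by
    intro p r hp hr hrp hpm hrm hlt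
    obtain ⟨c, hc⟩ := Nat.ordProj_dvd m r
    refine ⟨ordProj[r] m, c, hc, Nat.one_lt_pow (hr.factorization_pos_of_dvd hm0 hrm).ne' hr.one_lt, ?_, ?_⟩
    · have := Nat.coprime_ordCompl hr hm0
      have hc' : ordCompl[r] m = c := Nat.div_eq_of_eq_mul_right (Nat.pow_pos hr.pos) hc
      rw [hc'] at this
      exact this.pow_left _
    · have h2 : ordProj[r] m * ordProj[p] m ∣ m :=
        (Nat.coprime_pow_primes _ _ hr hp hrp).mul_dvd_of_dvd_of_dvd (Nat.ordProj_dvd m r) (Nat.ordProj_dvd m p)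
      calc ordProj[r] m * ordProj[r] m < ordProj[r] m * ordProj[p] m :=
            Nat.mul_lt_mul_of_pos_left hlt (Nat.pow_pos hr.pos)
        _ ≤ m := Nat.le_of_dvd (by omega) h2
  rcases lt_trichotomy (ordProj[r] m) (ordProj[p] m) with h | h | h
  · exact key p r hp hr hrp hpm hrm h
  · exfalso
    have h1 : r ∣ ordProj[p] m := h ▸ dvd_pow_self r (hr.factorization_pos_of_dvd hm0 hrm).ne'
    exact hrp ((Nat.prime_dvd_prime_iff_eq hr hp).1 (hr.dvd_of_dvd_pow h1))
  · exact key r p hr hp hrp.symm hrm hpm h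

theorem no_involution (hm : Odd m) {t : G} (ht : orderOf t = 2) : sz t ≠ m := by
  intro htm
  haveI : Fact (Nat.Prime 2) := ⟨Nat.prime_two⟩
  haveI := D.ns.simple
  letI : Fintype G := Fintype.ofFinite G
  have ht1 := ne_one_of_orderOf Nat.prime_two ht
  obtain ⟨q, y, hq, hyo, hy⟩ := D.exists_prime_l
  obtain ⟨hcomm, hcent⟩ := D.centraliser_facts hq hyo hy
  obtain ⟨hoff, hH, -⟩ := D.card_facts hq hyo hy ht1 htm
  obtain ⟨e, e', hee, he, hcop, hlt⟩ := D.exists_split
  have horb : Nat.card (MulAction.orbitRel.Quotient ↥(cz t) (G ⧸ cz t)) = 2 :=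
    two_orbits ⟨hcomm, hcent, hoff, by rw [hH]; exact htm⟩ D.ns.na (hH.trans hee) he hcop (hH.symm ▸ hlt)
  obtain ⟨P, hP⟩ := exists_sylow_le (p := 2) (C := cz t) (by
    rw [show (cz t).index = m from htm]
    exact hm.not_two_dvd_nat)
  have htP := mem_sylow_of_le_cz (a := 1) (by rw [ht, pow_one]) hP
  obtain ⟨g, hgP, hgne⟩ : ∃ g : G, g * t * g⁻¹ ∈ (P : Subgroup G) ∧ g * t * g⁻¹ ≠ t := by
    by_contra hno
    push Not at hno
    obtain ⟨N, hN, hNodd, hNc⟩ := S0215.result P t ht htP hno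
    rcases D.ns.normal N hN with rfl | rfl
    · refine ht1 (D.ns.eq_one_of_central fun z => ?_)
      have := Subgroup.mem_bot.1 (hNc z)
      exact (mul_inv_eq_iff_eq_mul.1 (mul_inv_eq_one.1 this)).symm
    · rw [Subgroup.card_top] at hNodd
      exact Nat.not_even_iff_odd.2 hNodd D.ns.even_card
  set C := cz t with hC
  have hgC : g⁻¹ ∉ C := fun h => hgne (conj_eq_of_mem (inv_inv g ▸ inv_mem h))
  have hfix : t • (QuotientGroup.mk g⁻¹ : G ⧸ C) = QuotientGroup.mk g⁻¹ := by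
    rw [MulAction.Quotient.smul_mk, smul_eq_mul, eq_comm, QuotientGroup.eq]
    simpa [mul_assoc] using hP hgP
  let π : G ⧸ C → MulAction.orbitRel.Quotient ↥C (G ⧸ C) := Quotient.mk''
  have hsing : ∀ z : G ⧸ C, π z = π (QuotientGroup.mk 1) → z = QuotientGroup.mk 1 := by
    intro z hz
    have := MulAction.orbitRel_apply.1 (Quotient.eq''.1 hz)
    obtain ⟨c, rfl⟩ := this
    show (c : G) • (QuotientGroup.mk 1 : G ⧸ C) = _
    rw [MulAction.Quotient.smul_mk, smul_eq_mul, mul_one, QuotientGroup.eq, mul_one]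
    exact inv_mem c.2
  have hne : π (QuotientGroup.mk g⁻¹) ≠ π (QuotientGroup.mk 1) := fun h => hgC (by
    have := QuotientGroup.eq.1 (hsing _ h)
    simpa using inv_mem this)
  obtain ⟨o, -, huniq⟩ := (Nat.card_eq_two_iff' (π (QuotientGroup.mk 1))).1 horb
  have hall : ∀ b : G, t • (QuotientGroup.mk b : G ⧸ C) = QuotientGroup.mk b := by
    intro b
    by_cases hb : π (QuotientGroup.mk b) = π (QuotientGroup.mk 1)
    · rw [hsing _ hb, MulAction.Quotient.smul_mk, smul_eq_mul, mul_one, QuotientGroup.eq, mul_one]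
      exact inv_mem (mem_cz.2 rfl)
    · have h2 : π (QuotientGroup.mk b) = π (QuotientGroup.mk g⁻¹) := (huniq _ hb).trans (huniq _ hne).symm
      obtain ⟨c, hc⟩ := MulAction.orbitRel_apply.1 (Quotient.eq''.1 h2)
      rw [← hc]
      show t • ((c : G) • (QuotientGroup.mk g⁻¹ : G ⧸ C)) = (c : G) • (QuotientGroup.mk g⁻¹ : G ⧸ C)
      rw [← mul_smul, ← mem_cz.1 c.2, mul_smul, hfix]
  have hcore : t ∈ C.normalCore := fun b => by
    have h := hall b⁻¹
    rw [MulAction.Quotient.smul_mk, smul_eq_mul, eq_comm, QuotientGroup.eq] at h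
    simpa [mul_assoc] using h
  rcases D.ns.normal C.normalCore inferInstance with h | h
  · exact ht1 (Subgroup.mem_bot.1 (h ▸ hcore))
  · exact hgC (Subgroup.normalCore_le C (h.symm.le (Subgroup.mem_top _)))

theorem isPSLTwo : IsPSLTwo G := by
  haveI : Fact (Nat.Prime 2) := ⟨Nat.prime_two⟩
  have hcard := D.card_group
  have hcz2 : ∀ t : G, orderOf t = 2 → 2 ∣ Nat.card (cz t) := fun t ht =>
    ht ▸ Subgroup.orderOf_dvd_natCard _ (mem_cz.2 rfl)
  rcases Nat.even_or_odd m with hm | hm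
  · have hl : ¬ 2 ∣ l := fun h => by
      have := Nat.eq_one_of_dvd_coprimes D.cop hm.two_dvd h
      omega
    refine IsPSLTwo.of_abelian D.ns fun t ht => ?_
    have htl : sz t = l := by
      have h := (cz t).card_mul_index
      rw [hcard] at h
      rcases D.sizes t (ne_one_of_orderOf Nat.prime_two ht) with e | e | e
      · rw [show (cz t).index = m from e, mul_comm m l] at h
        exact absurd ((hcz2 t ht).trans (Nat.eq_of_mul_eq_mul_right (by have := D.one_lt_m; omega) h).dvd) hl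
      · exact e
      · rw [show (cz t).index = m * k from e, mul_comm (Nat.card (cz t)), mul_assoc] at h
        have := Nat.eq_of_mul_eq_mul_left (by have := D.one_lt_m; omega) h
        exact absurd ((hcz2 t ht).trans ⟨k, by rw [← this]; ring⟩) hl
    obtain ⟨hc, -⟩ := D.centraliser_facts Nat.prime_two ht htl
    exact ⟨⟨fun a b => Subtype.ext (hc a a.2 b b.2)⟩⟩
  · have hm2 : ¬ 2 ∣ m := hm.not_two_dvd_nat
    have hl : 2 ∣ l := (Nat.prime_two.dvd_mul.1 (hcard ▸ even_iff_two_dvd.1 D.ns.even_card)).resolve_left hm2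
    have hnl : ∀ t : G, orderOf t = 2 → sz t ≠ l := by
      intro t ht e
      have h := (cz t).card_mul_index
      rw [hcard, show (cz t).index = l from e] at h
      exact hm2 ((hcz2 t ht).trans (Nat.eq_of_mul_eq_mul_right (by have := D.one_lt_l; omega) h).dvd)
    have hinv : ∀ t : G, orderOf t = 2 → sz t = m * k := fun t ht =>
      ((D.sizes t (ne_one_of_orderOf Nat.prime_two ht)).resolve_left (D.no_involution hm ht)).resolve_left
        (hnl t ht)
    obtain ⟨t, ht, -, htodd⟩ := exists_sylow_center (even_iff_two_dvd.1 D.ns.even_card) (default : Sylow 2 G)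
    rw [hinv t ht] at htodd
    obtain ⟨p, x, hp, hxo, hx⟩ := D.exists_prime_m
    obtain ⟨S, hS⟩ := exists_sylow_le (p := 2) (C := cz x) (show ¬ 2 ∣ sz x by rw [hx]; exact hm2)
    refine IsPSLTwo.of_odd_sizes D.ns (fun v ⟨a, ha⟩ => ?_) fun t ht w hw h => by
      rw [hinv t ht] at h ⊢
      exact D.eq_mk hw h
    rcases eq_or_ne v 1 with rfl | hv
    · rw [sz_one]
      decide
    obtain ⟨g, hg⟩ := exists_conj_mem_sylow ha S
    rw [← sz_conj g v]
    have hv' : g * v * g⁻¹ ≠ 1 := fun e => hv (conj_eq_one_iff.1 e)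
    rcases D.sizes _ hv' with e | e | e
    · rwa [e]
    · exact absurd (mem_cz.1 (hS hg)).symm
        (D.never_commute (ne_one_of_orderOf hp hxo) hv' hx e)
    · rwa [e]

end Cfg

/-- **Itô**: the forward direction. -/
theorem isPSLTwo_of_three (hG : NS G) (h3 : Set.ncard {n : ℕ | ∃ x : G, x ≠ 1 ∧ n = sz x} = 3) :
    IsPSLTwo G := by
  by_cases hflat : ∀ a b : G, a ≠ 1 → b ≠ 1 → sz a ∣ sz b → sz a = sz b
  · exact IsPSLTwo.of_flat hG hflat
  push Not at hflat
  obtain ⟨a, b, ha, hb, hdvd, hab⟩ := hflat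
  set T : Set ℕ := {n : ℕ | ∃ x : G, x ≠ 1 ∧ n = sz x} with hT
  have hTfin : T.Finite := Set.finite_of_ncard_ne_zero (by omega)
  have hsub : ({sz a, sz b} : Set ℕ) ⊆ T := by
    rintro _ (rfl | rfl)
    exacts [⟨a, ha, rfl⟩, ⟨b, hb, rfl⟩]
  obtain ⟨_, ⟨c, hc, rfl⟩, hcn⟩ := Set.exists_mem_notMem_of_ncard_lt_ncard
    (show ({sz a, sz b} : Set ℕ).ncard < T.ncard by rw [Set.ncard_pair hab, h3]; omega)
  simp only [Set.mem_insert_iff, Set.mem_singleton_iff, not_or] at hcn
  obtain ⟨hca, hcb⟩ := hcn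
  have hTeq : ({sz c, sz a, sz b} : Set ℕ) = T := Set.eq_of_subset_of_ncard_le
    (Set.insert_subset ⟨c, hc, rfl⟩ hsub) (by
      rw [h3, Set.ncard_insert_of_notMem (by simp [hca, hcb]), Set.ncard_pair hab]) hTfin
  have hall : ∀ z : G, z ≠ 1 → sz z = sz c ∨ sz z = sz a ∨ sz z = sz b := by
    intro z hz
    have : sz z ∈ T := ⟨z, hz, rfl⟩
    rw [← hTeq] at this
    simpa using this
  have hcop : (sz a).Coprime (sz c) := Nat.coprime_of_dvd fun p hp hpa hpc => by
    obtain ⟨z, hz, hzp⟩ := exists_not_dvd_sz hG hp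
    rcases hall z hz with e | e | e <;> rw [e] at hzp
    exacts [hzp hpc, hzp hpa, hzp (hpa.trans hdvd)]
  have hac : a * c ≠ 1 := fun e => hca (by
    rw [← inv_eq_of_mul_eq_one_right e]
    exact congrArg Subgroup.index (by
      ext z
      simp only [mem_cz]
      exact ⟨fun h => Commute.inv_right_iff.1 h, fun h => Commute.inv_right h⟩))
  have hprod : sz (a * c) = sz b := ((hall _ hac).resolve_left (hG.sz_mul_ne ha hc hcop)).resolve_left
    (hG.sz_mul_ne' ha hc hcop)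
  obtain ⟨k, hk⟩ := hdvd
  have hkc : k ∣ sz c := Nat.dvd_of_mul_dvd_mul_left (k := sz a) (by have := hG.one_lt_sz ha; omega)
    (hk ▸ hprod ▸ sz_mul_dvd hcop)
  have hk1 : 1 < k := by
    have := hG.one_lt_sz hb
    rcases k with _ | _ | k
    · omega
    · simp at hk; exact absurd hk.symm hab
    · omega
  rcases eq_or_ne k (sz c) with hkeq | hkne
  · exfalso
    have hr : Set.range (fun z : G => (Subgroup.centralizer ({z} : Set G)).index) =
        ({1, sz a, sz c, sz a * sz c} : Set ℕ) := by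
      rw [← hkeq, ← hk]
      refine Set.Subset.antisymm ?_ ?_
      · rintro _ ⟨z, rfl⟩
        rcases eq_or_ne z 1 with rfl | hz
        · exact Or.inl sz_one
        · rcases hall z hz with e | e | e
          · exact Or.inr (Or.inr (Or.inl (hkeq ▸ e)))
          · exact Or.inr (Or.inl e)
          · exact Or.inr (Or.inr (Or.inr e))
      · rintro _ (rfl | rfl | rfl | rfl)
        exacts [⟨1, sz_one⟩, ⟨a, rfl⟩, ⟨c, hkeq.symm⟩, ⟨b, rfl⟩]
    haveI := (S4146.result _ _ (hG.one_lt_sz ha) (hG.one_lt_sz hc) hcop hr).1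
    haveI := hG.simple
    exact hG.na ⟨⟨fun u v => IsSimpleGroup.comm_iff_isSolvable.2 inferInstance u v⟩⟩
  · refine Cfg.isPSLTwo (m := sz a) (l := sz c) (k := k) ⟨hG, fun z hz => ?_, ⟨a, ha, rfl⟩, ⟨c, hc, rfl⟩,
      hcop, hk1, hkc, hkne⟩
    rw [← hk]
    rcases hall z hz with e | e | e
    exacts [Or.inr (Or.inl e), Or.inl e, Or.inr (Or.inr e)]

end Cfsg.Agent.ItoRankThree
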